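import Mathlib
import Groth.Prelude.Def_W4c5qcohlocdualityLoc

/-!
# Injective envelopes in Grothendieck abelian categories and closed objects
-/

set_option autoImplicit false

universe w v u

open CategoryTheory CategoryTheory.Limits ZeroObject

namespace Groth.Agent.GabLoc

variable {C : Type u} [Category.{v} C] [Abelian C]

/-- An essential morphism. -/
def Ess {M N : C} (j : M ⟶ N) : Prop := ∀ ⦃R : C⦄ (g : N ⟶ R), Mono (j ≫ g) → Mono g

theorem Ess.comp {M N Q : C} {j : M ⟶ N} {k : N ⟶ Q} (hj : Ess j) (hk : Ess k) : Ess (j ≫ k) := fun R g h =>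
  hk g (hj (k ≫ g) (by rwa [← Category.assoc]))

theorem ess_of_isIso {M N : C} (j : M ⟶ N) [IsIso j] : Ess j := fun R g h => by
  have : g = inv j ≫ (j ≫ g) := by simp
  rw [this]; infer_instance

theorem mono_comp_cokernel_symm {A M E : C} (a : A ⟶ E) [Mono a] (m : M ⟶ E) [Mono m]
    (h : Mono (a ≫ cokernel.π m)) : Mono (m ≫ cokernel.π a) := by
  refine Preadditive.mono_of_cancel_zero _ fun t ht => ?_
  rw [← Category.assoc] at ht
  let s := Abelian.monoLift a (t ≫ m) ht
  have hs : s ≫ a = t ≫ m := Abelian.monoLift_comp a _ ht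
  have hs0 : s = 0 := zero_of_comp_mono (a ≫ cokernel.π m) (by
    rw [← Category.assoc, hs, Category.assoc, cokernel.condition, comp_zero])
  refine zero_of_comp_mono m ?_
  rw [← hs, hs0, zero_comp]

variable [IsGrothendieckAbelian.{w} C]

theorem mono_of_chain {X R : C} (s : Set (Subobject X)) (hne : s.Nonempty) (hc : IsChain (· ≤ ·) s)
    (g : ((sSup s : Subobject X) : C) ⟶ R)
    (h : ∀ (S : Subobject X) (hS : S ∈ s), Mono (Subobject.ofLE S (sSup s) (le_sSup hS) ≫ g)) : Mono g := by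
  classical
  obtain ⟨J, ⟨eJ⟩⟩ : ∃ J : Type w, Nonempty (s ≃ J) := ⟨_, ⟨equivShrink s⟩⟩
  letI : Preorder J := Preorder.lift fun j => ((eJ.symm j).1 : Subobject X)
  haveI : Nonempty J := ⟨eJ ⟨_, hne.choose_spec⟩⟩
  haveI : IsDirected J (· ≤ ·) := ⟨fun i j => by
    rcases hc.total (eJ.symm i).2 (eJ.symm j).2 with hij | hij
    · exact ⟨j, hij, le_refl j⟩
    · exact ⟨i, le_refl i, hij⟩⟩
  haveI : IsFiltered J := isFiltered_of_directed_le_nonempty J
  let S : J → Subobject X := fun j => (eJ.symm j).1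
  have hSs : ∀ j, S j ∈ s := fun j => (eJ.symm j).2
  haveI : ∀ j, Mono (Subobject.ofLE (S j) (sSup s) (le_sSup (hSs j)) ≫ g) := fun j => h _ (hSs j)
  let F : J ⥤ MonoOver X :=
    { obj := fun j => MonoOver.mk (S j).arrow
      map := fun {i j} hij => MonoOver.homMk (Subobject.ofLE (S i) (S j) (@leOfHom _ _ i j hij)) (Subobject.ofLE_arrow _)
      map_id := fun j => Subsingleton.elim _ _
      map_comp := fun _ _ => Subsingleton.elim _ _ }
  let G : J ⥤ C := F ⋙ MonoOver.forget _ ⋙ Over.forget _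
  let c := colimit.cocone G
  let f : c.pt ⟶ X := colimit.desc G (Cocone.mk X
    { app := fun j => (S j).arrow
      naturality := fun i j hij => by simp [G, F] })
  have hf : ∀ j, c.ι.app j ≫ f = (F.obj j).obj.hom := fun j => colimit.ι_desc _ _
  haveI hfm : Mono f := IsGrothendieckAbelian.mono_of_isColimit_monoOver F (colimit.isColimit G) f hf
  have hsup : Subobject.mk f = sSup s := by
    rw [IsGrothendieckAbelian.subobjectMk_of_isColimit_eq_iSup F (colimit.isColimit G) f hf]
    refine le_antisymm (iSup_le fun j => ?_) (sSup_le fun T hT => ?_)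
    · exact le_of_eq_of_le (Subobject.mk_arrow (S j)) (le_sSup (hSs j))
    · refine le_iSup_of_le (eJ ⟨T, hT⟩) ?_
      refine le_of_le_of_eq ?_ (Subobject.mk_arrow (S (eJ ⟨T, hT⟩))).symm
      simp [S]
  let e : c.pt ≅ ((sSup s : Subobject X) : C) :=
    (Subobject.underlyingIso f).symm ≪≫ eqToIso (by rw [hsup])
  have he : ∀ j, c.ι.app j ≫ e.hom = Subobject.ofLE (S j) (sSup s) (le_sSup (hSs j)) := fun j => by
    apply (cancel_mono (sSup s : Subobject X).arrow).mp
    have he2 : e.hom ≫ (sSup s : Subobject X).arrow = f := by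
      simp only [e, Iso.trans_hom, Iso.symm_hom, eqToIso.hom, Category.assoc]
      rw [show eqToHom (by rw [hsup]) ≫ (sSup s : Subobject X).arrow = (Subobject.mk f).arrow from ?_]
      · exact Subobject.underlyingIso_arrow f
      · clear_value f
        generalize hT : sSup s = T at hsup ⊢
        subst hsup
        simp
    rw [Category.assoc, he2]
    exact (hf j).trans (Subobject.ofLE_arrow _).symm
  let F' : J ⥤ MonoOver R :=
    { obj := fun j => MonoOver.mk (Subobject.ofLE (S j) (sSup s) (le_sSup (hSs j)) ≫ g)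
      map := fun {i j} hij => MonoOver.homMk (Subobject.ofLE (S i) (S j) (@leOfHom _ _ i j hij))
        (by
          show Subobject.ofLE (S i) (S j) _ ≫ Subobject.ofLE (S j) (sSup s) _ ≫ g = Subobject.ofLE (S i) (sSup s) _ ≫ g
          rw [← Category.assoc, Subobject.ofLE_comp_ofLE])
      map_id := fun j => Subsingleton.elim _ _
      map_comp := fun _ _ => Subsingleton.elim _ _ }
  haveI : Mono (e.hom ≫ g) :=
    IsGrothendieckAbelian.mono_of_isColimit_monoOver F' (c := c) (colimit.isColimit G) (e.hom ≫ g) fun j => by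
      show c.ι.app j ≫ e.hom ≫ g = _
      rw [← Category.assoc, he]
      rfl
  have : g = e.inv ≫ e.hom ≫ g := by simp
  rw [this]; infer_instance

theorem exists_complement {M E : C} (m : M ⟶ E) [Mono m] :
    ∃ K : Subobject E, Mono (m ≫ cokernel.π K.arrow) ∧ Ess (m ≫ cokernel.π K.arrow) := by
  classical
  let P : Set (Subobject E) := {K | Mono (K.arrow ≫ cokernel.π m)}
  have hbot : (⊥ : Subobject E) ∈ P := by
    show Mono _
    refine Preadditive.mono_of_cancel_zero _ fun t _ => ?_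
    exact zero_of_comp_mono (⊥ : Subobject E).arrow (by rw [Subobject.bot_arrow, comp_zero])
  obtain ⟨K, -, hK⟩ := zorn_le_nonempty₀ P (fun c hcP hc y hy => ⟨sSup c, by
    refine mono_of_chain c ⟨y, hy⟩ hc _ fun S hS => ?_
    rw [← Category.assoc, Subobject.ofLE_arrow]
    exact hcP hS, fun z hz => le_sSup hz⟩) ⊥ hbot
  haveI : Mono (K.arrow ≫ cokernel.π m) := hK.1
  haveI hj := mono_comp_cokernel_symm K.arrow m hK.1
  refine ⟨K, hj, fun R g hg => ?_⟩
  haveI := hg
  let K' := kernelSubobject (cokernel.π K.arrow ≫ g)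
  have hle : K ≤ K' := le_kernelSubobject _ _ (by rw [← Category.assoc, cokernel.condition, zero_comp])
  have hK' : K' ∈ P := by
    refine mono_comp_cokernel_symm m K'.arrow (Preadditive.mono_of_cancel_zero _ fun t ht => ?_)
    rw [← Category.assoc] at ht
    have hs := Abelian.monoLift_comp K'.arrow _ ht
    refine zero_of_comp_mono ((m ≫ cokernel.π K.arrow) ≫ g) ?_
    calc t ≫ (m ≫ cokernel.π K.arrow) ≫ g = (t ≫ m) ≫ cokernel.π K.arrow ≫ g := by simp
      _ = _ := by
        rw [← hs, Category.assoc, show K'.arrow ≫ cokernel.π K.arrow ≫ g = 0 from kernelSubobject_arrow_comp _, comp_zero]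
  have heq : K' ≤ K := hK.2 hK' hle
  refine Preadditive.mono_of_cancel_zero _ fun t ht => ?_
  have h2 : (pullback.snd t (cokernel.π K.arrow) ≫ cokernel.π K.arrow ≫ g) = 0 := by
    rw [← Category.assoc, ← pullback.condition, Category.assoc, ht, comp_zero]
  have h3 : pullback.snd t (cokernel.π K.arrow) ≫ cokernel.π K.arrow = 0 := by
    have hfac := (kernelSubobject_factors_iff _ _).mpr h2
    rw [← Subobject.factorThru_arrow K _ (Subobject.factors_of_le _ heq hfac), Category.assoc, cokernel.condition, comp_zero]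
  refine zero_of_epi_comp (pullback.fst t (cokernel.π K.arrow)) ?_
  rw [pullback.condition, h3]

/-- Injective envelopes exist. -/
theorem exists_envelope (M : C) : ∃ (E : C) (_ : Injective E) (j : M ⟶ E), Mono j ∧ Ess j := by
  classical
  let E := Injective.under M
  let m : M ⟶ E := Injective.ι M
  let P : Set (Subobject E) := {N | ∃ j : M ⟶ (N : C), j ≫ N.arrow = m ∧ Ess j}
  have h0 : Subobject.mk m ∈ P :=
    ⟨(Subobject.underlyingIso m).inv, Subobject.underlyingIso_arrow m, ess_of_isIso _⟩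
  obtain ⟨N, -, ⟨j, hj, hess⟩, hmax⟩ := zorn_le_nonempty₀ P (fun c hcP hc y hy => ⟨sSup c, by
    obtain ⟨jy, hjy, hey⟩ := hcP hy
    refine ⟨jy ≫ Subobject.ofLE y (sSup c) (le_sSup hy), by simp [hjy], fun R g hg => ?_⟩
    refine mono_of_chain c ⟨y, hy⟩ hc g fun S hS => ?_
    obtain ⟨jS, hjS, heS⟩ := hcP hS
    refine heS _ ?_
    rw [← Category.assoc]
    convert hg using 2
    apply (cancel_mono (sSup c : Subobject E).arrow).mp
    simp [hjy, hjS], fun z hz => le_sSup hz⟩) _ h0
  haveI : Mono j := mono_of_mono_fac hj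
  obtain ⟨K, hK1, hK2⟩ := exists_complement N.arrow
  haveI := hK1
  let φ := Injective.factorThru N.arrow (N.arrow ≫ cokernel.π K.arrow)
  have hφ : (N.arrow ≫ cokernel.π K.arrow) ≫ φ = N.arrow := Injective.comp_factorThru _ _
  haveI : Mono φ := hK2 φ (by rw [hφ]; infer_instance)
  have hmem : Subobject.mk φ ∈ P := by
    refine ⟨(j ≫ N.arrow ≫ cokernel.π K.arrow) ≫ (Subobject.underlyingIso φ).inv, ?_, ?_⟩
    · rw [Category.assoc, Subobject.underlyingIso_arrow, Category.assoc, hφ, hj]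
    · exact (hess.comp hK2).comp (ess_of_isIso _)
  have hle : N ≤ Subobject.mk φ := Subobject.le_mk_of_comm (N.arrow ≫ cokernel.π K.arrow) hφ
  have hge : Subobject.mk φ ≤ N := hmax hmem hle
  let k := Subobject.ofMkLE φ N hge
  have hk : k ≫ N.arrow = φ := Subobject.ofMkLE_arrow hge
  have hjk : (N.arrow ≫ cokernel.π K.arrow) ≫ k = 𝟙 _ := by
    apply (cancel_mono N.arrow).mp
    rw [Category.assoc, hk, hφ, Category.id_comp]
  let r : E ⟶ (N : C) := cokernel.π K.arrow ≫ k
  have hr : N.arrow ≫ r = 𝟙 _ := by rw [← Category.assoc]; exact hjk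
  refine ⟨(N : C), ⟨fun {X Y} g f hf => ⟨Injective.factorThru (g ≫ N.arrow) f ≫ r, ?_⟩⟩, j, inferInstance, hess⟩
  rw [← Category.assoc, Injective.comp_factorThru, Category.assoc, hr, Category.comp_id]

omit [IsGrothendieckAbelian.{w} C] in
/-- Key property of essential monomorphisms. -/
theorem exists_inter {M E Y : C} (m : M ⟶ E) [Mono m] (hm : Ess m) (f : Y ⟶ E) (hf : f ≠ 0) :
    ∃ (T : C) (a : T ⟶ image f) (b : T ⟶ M), Mono a ∧ Mono b ∧ b ≠ 0 ∧ a ≫ image.ι f = b ≫ m := by
  refine ⟨kernel (m ≫ cokernel.π (image.ι f)),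
    Abelian.monoLift (image.ι f) (kernel.ι _ ≫ m) (by rw [Category.assoc, kernel.condition]),
    kernel.ι _, ?_, inferInstance, fun h0 => hf ?_, Abelian.monoLift_comp _ _ _⟩
  · exact mono_of_mono_fac (Abelian.monoLift_comp _ _ _)
  · haveI : Mono (m ≫ cokernel.π (image.ι f)) := Preadditive.mono_of_kernel_zero h0
    haveI := hm (cokernel.π (image.ι f)) inferInstance
    have : image.ι f = 0 := zero_of_comp_mono (cokernel.π (image.ι f)) (cokernel.condition _)
    rw [← image.fac f, this, comp_zero]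

omit [IsGrothendieckAbelian.{w} C] in
theorem hom_env_eq_zero (P : ObjectProperty C) [P.IsClosedUnderSubobjects] [P.IsClosedUnderQuotients]
    {M E : C} (m : M ⟶ E) [Mono m] (hm : Ess m) (hM : ∀ ⦃Y : C⦄, P Y → ∀ f : Y ⟶ M, f = 0) {Y : C} (hY : P Y)
    (f : Y ⟶ E) : f = 0 := by
  by_contra hf
  obtain ⟨T, a, b, _, _, hb, -⟩ := exists_inter m hm f hf
  exact hb (hM (P.prop_of_mono a (P.prop_of_epi (factorThruImage f) hY)) b)

omit [IsGrothendieckAbelian.{w} C] in
theorem isLocalizing_hom_eq_zero (E E' : C) [Injective E] [Injective E'] :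
    _root_.GabLoc.IsLocalizing.{w} (fun X : C => (∀ f : X ⟶ E, f = 0) ∧ ∀ f : X ⟶ E', f = 0) := by
  let T : ObjectProperty C := fun X => (∀ f : X ⟶ E, f = 0) ∧ ∀ f : X ⟶ E', f = 0
  haveI h1 : T.IsClosedUnderSubobjects := ⟨fun {X Y} i _ hY =>
    ⟨fun f => by rw [← Injective.comp_factorThru f i]; exact (congrArg (i ≫ ·) (hY.1 _)).trans comp_zero,
      fun f => by rw [← Injective.comp_factorThru f i]; exact (congrArg (i ≫ ·) (hY.2 _)).trans comp_zero⟩⟩
  haveI h2 : T.IsClosedUnderQuotients := ⟨fun {X Y} p _ hX =>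
    ⟨fun f => zero_of_epi_comp p (hX.1 _), fun f => zero_of_epi_comp p (hX.2 _)⟩⟩
  have hext : ∀ (S : ShortComplex C), S.ShortExact → T S.X₁ → T S.X₃ → ∀ (F : C), (∀ f : S.X₁ ⟶ F, f = 0) →
      (∀ f : S.X₃ ⟶ F, f = 0) → ∀ f : S.X₂ ⟶ F, f = 0 := fun S hS _ _ F hF1 hF3 f => by
    haveI := hS.epi_g
    rw [← hS.exact.g_desc f (hF1 _), hF3 (hS.exact.desc f (hF1 _)), comp_zero]
  haveI h3 : T.IsClosedUnderExtensions := ⟨fun {S} hS a b =>
    ⟨hext S hS a b E a.1 b.1, hext S hS a b E' a.2 b.2⟩⟩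
  haveI h4 : T.ContainsZero := ⟨⟨0, isZero_zero C, fun f => (isZero_zero C).eq_of_src _ _, fun f => (isZero_zero C).eq_of_src _ _⟩⟩
  exact ⟨{}, fun J => ⟨fun X ⟨pr⟩ => ⟨fun f => pr.isColimit.hom_ext fun j => ((pr.prop_diag_obj j).1 _).trans comp_zero.symm,
    fun f => pr.isColimit.hom_ext fun j => ((pr.prop_diag_obj j).2 _).trans comp_zero.symm⟩⟩⟩

theorem isClosedFor_locClosure (P : ObjectProperty C) [P.IsClosedUnderSubobjects] [P.IsClosedUnderQuotients] (M : C)
    (hM : _root_.GabLoc.IsClosedFor P M) : _root_.GabLoc.IsClosedFor (_root_.GabLoc.locClosure.{w} P) M := by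
  classical
  obtain ⟨E, _, m, _, hm⟩ := exists_envelope.{w} M
  obtain ⟨E', _, m', _, hm'⟩ := exists_envelope.{w} (cokernel m)
  have hQ : ∀ ⦃Y : C⦄, P Y → ∀ f : Y ⟶ cokernel m, f = 0 := by
    intro Y hY f
    let p := pullback.snd (cokernel.π m) f
    let i : M ⟶ pullback (cokernel.π m) f := pullback.lift m 0 (by simp)
    haveI : Mono i := mono_of_mono_fac (pullback.lift_fst m 0 _)
    have hse : (ShortComplex.mk i p (pullback.lift_snd m 0 _)).ShortExact := by
      refine ShortComplex.ShortExact.mk' ?_ inferInstance inferInstance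
      refine ShortComplex.exact_of_f_is_kernel _ ?_
      refine KernelFork.IsLimit.ofι' i (pullback.lift_snd m 0 _) fun {A} k hk => ?_
      have h0 : (k ≫ pullback.fst (cokernel.π m) f) ≫ cokernel.π m = 0 := by
        rw [Category.assoc, pullback.condition, ← Category.assoc]
        show (k ≫ p) ≫ f = 0
        rw [hk, zero_comp]
      refine ⟨Abelian.monoLift m _ h0, ?_⟩
      apply pullback.hom_ext
      · rw [Category.assoc, pullback.lift_fst]; exact Abelian.monoLift_comp _ _ _
      · rw [Category.assoc, pullback.lift_snd, comp_zero]; exact hk.symm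
    haveI := hM.2 i p _ hY hse
    let sp := ShortComplex.Splitting.ofExactOfRetraction _ hse.exact (retraction i) (IsSplitMono.id i) inferInstance
    have h1 : sp.s ≫ pullback.fst (cokernel.π m) f = 0 := hom_env_eq_zero P m hm hM.1 hY _
    have h2 : sp.s ≫ p = 𝟙 Y := sp.s_g
    calc f = (sp.s ≫ p) ≫ f := by rw [h2, Category.id_comp]
      _ = sp.s ≫ pullback.fst (cokernel.π m) f ≫ cokernel.π m := by rw [Category.assoc, pullback.condition]
      _ = 0 := (Category.assoc _ _ _).symm.trans ((congrArg (· ≫ cokernel.π m) h1).trans zero_comp)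
  have hT : ∀ ⦃Y : C⦄, _root_.GabLoc.locClosure.{w} P Y → (∀ f : Y ⟶ E, f = 0) ∧ ∀ f : Y ⟶ E', f = 0 := fun Y hY =>
    hY _ (isLocalizing_hom_eq_zero E E') fun Z hZ =>
      ⟨fun f => hom_env_eq_zero P m hm hM.1 hZ f, fun f => hom_env_eq_zero P m' hm' hQ hZ f⟩
  refine ⟨fun Y hY f => zero_of_comp_mono m ((hT hY).1 _), fun N Y i p hp hY hse => ?_⟩
  haveI : Mono i := hse.mono_f
  haveI : Epi p := hse.epi_g
  let e := Injective.factorThru m i
  have he : i ≫ e = m := Injective.comp_factorThru _ _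
  let u : Y ⟶ cokernel m := hse.exact.desc (e ≫ cokernel.π m) (by
    show i ≫ e ≫ cokernel.π m = 0
    rw [← Category.assoc, he, cokernel.condition])
  have hu : p ≫ u = e ≫ cokernel.π m := hse.exact.g_desc _ _
  have hu0 : u = 0 := zero_of_comp_mono m' ((hT hY).2 _)
  rw [hu0, comp_zero] at hu
  refine IsSplitMono.mk' ⟨Abelian.monoLift m e hu.symm, ?_⟩
  apply (cancel_mono m).mp
  rw [Category.assoc, Abelian.monoLift_comp, he, Category.id_comp]

theorem ess_of_indecomposable (E : C) [Injective E] (hind : ∀ (A B : C), Nonempty (E ≅ A ⊞ B) → IsZero A ∨ IsZero B)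
    {I : C} (i : I ⟶ E) [Mono i] (hi : i ≠ 0) : Ess i := by
  obtain ⟨N, _, j, _, hj⟩ := exists_envelope.{w} I
  let φ := Injective.factorThru i j
  have hφ : j ≫ φ = i := Injective.comp_factorThru _ _
  haveI : Mono φ := hj φ (by rw [hφ]; infer_instance)
  let r := Injective.factorThru (𝟙 N) φ
  have hr : φ ≫ r = 𝟙 N := Injective.comp_factorThru _ _
  have hex : (ShortComplex.mk φ (cokernel.π φ) (cokernel.condition φ)).Exact :=
    ShortComplex.exact_of_g_is_cokernel _ (cokernelIsCokernel φ)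
  let sp := ShortComplex.Splitting.ofExactOfRetraction _ hex r hr inferInstance
  rcases hind N (cokernel φ) ⟨sp.isoBinaryBiproduct⟩ with hN | hQ
  · exact absurd (by rw [← hφ, hN.eq_of_src φ 0, comp_zero]) hi
  · haveI : Epi φ := Abelian.epi_of_cokernel_π_eq_zero φ (hQ.eq_of_tgt _ _)
    haveI : IsIso φ := isIso_of_mono_of_epi φ
    rw [← hφ]
    exact hj.comp (ess_of_isIso φ)

end Groth.Agent.GabLoc
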